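import Cfsg.Agent.Lib.Monster.Baby
import Cfsg.Agent.Lib.Monster.Cen2

/-!
# Elementary abelian `2`-subgroups in a group of Monster type: tools (helper24)
-/

set_option autoImplicit false
set_option maxRecDepth 100000

namespace Cfsg.Lib.M5

open Subgroup MulAction Matrix Cfsg.Lib.Leech Cfsg.Lib.ES Cfsg.Spor Cfsg.Lib.Mon Cfsg.Lib.Calc Cfsg.Lib.F2
open scoped commutatorElement

theorem code2_add (u v : L2) : code2 (u + v) = code2 u ^^^ code2 v := by
  induction u using QuotientAddGroup.induction_on
  induction v using QuotientAddGroup.induction_on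
  exact code_add _ _

theorem code2_zero : code2 0 = 0 := code_zero

theorem code2_neg (u : L2) : code2 (-u) = code2 u := by
  induction u using QuotientAddGroup.induction_on
  exact code_neg _

/-- The Gram matrix of the basis, modulo two. -/
def GM : ℕ := 0x100063b00031d000bc1000faf000d990006cd0003670001b3000a9700054b0008eb1c50814e20097b40043da0001ed80013301149900364c0416e34002b420149f020fffc74

/-- The bilinear form on codes. -/
noncomputable def bil (a b : ℕ) : ℕ := appA 1 (app 24 GM a) b 24

theorem appA_xor_left (d C D c m : ℕ) : appA d (C ^^^ D) c m = appA d C c m ^^^ appA d D c m := by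
  induction m with
  | zero => simp [appA_zero]
  | succ m ih =>
    rw [appA_succ, appA_succ, appA_succ, ih, get_xor]
    split_ifs
    · ac_rfl
    · simp

theorem bil_xor_left (a b c : ℕ) : bil (a ^^^ b) c = bil a c ^^^ bil b c := by rw [bil, app_xor, appA_xor_left]; rfl

theorem bil_xor_right (a b c : ℕ) : bil a (b ^^^ c) = bil a b ^^^ bil a c := appA_xor _ _ _ _ _

theorem bil_lt (a b : ℕ) : bil a b < 2 := appA_lt 1 _ _ _

theorem z2_bil (x y : leechLattice) : z2 ((bil (code x) (code y)).testBit 0) = ((dt(x, y) / 8 : ℤ) : ZMod 2) := by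
  have h8 : ∀ u v w : leechLattice, dt(u, v + w) / 8 = dt(u, v) / 8 + dt(u, w) / 8 := fun u v w => by
    have := eight_dvd_dot u.2 v.2
    rw [AddSubgroup.coe_add, dot_add_right]; omega
  have k1 : ∀ u : leechLattice, (∀ i < 24, z2 ((bil (code u) (code (bas i))).testBit 0) = ((dt(u, bas i) / 8 : ℤ) : ZMod 2)) →
      ∀ v, z2 ((bil (code u) (code v)).testBit 0) = ((dt(u, v) / 8 : ℤ) : ZMod 2) := fun u h v =>
    DFunLike.congr_fun (hom_ext_bas (f := AddMonoidHom.mk' (fun v => z2 ((bil (code u) (code v)).testBit 0)) fun a b => by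
        rw [code_add, bil_xor_right, Nat.testBit_xor, z2_xor])
      (g := AddMonoidHom.mk' (fun v : leechLattice => ((dt(u, v) / 8 : ℤ) : ZMod 2)) fun a b => by rw [h8, Int.cast_add]) h) v
  refine k1 x (fun j hj => ?_) y
  refine DFunLike.congr_fun (hom_ext_bas
    (f := AddMonoidHom.mk' (fun v => z2 ((bil (code v) (code (bas j))).testBit 0)) fun a b => by
      rw [code_add, bil_xor_left, Nat.testBit_xor, z2_xor])
    (g := AddMonoidHom.mk' (fun v : leechLattice => ((dt(v, bas j) / 8 : ℤ) : ZMod 2)) fun a b => by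
      rw [dot_comm, h8, Int.cast_add, dot_comm, dot_comm (bas j : GolayPt → ℤ)]) fun i hi => ?_) x
  have := allLt_iff.1 (allLt_iff.1 (show allLt 24 (fun i => allLt 24 fun j => Nat.beq (bil (2 ^ i) (2 ^ j))
    (dotO (get 192 basP i) (get 192 basP j) / 8 % 2)) = true by decide +kernel) i hi) j hj
  have h1 := dotO_eq (get 192 basP i) (get 192 basP j)
  have h2 := eight_dvd_dot (bas i).2 (bas j).2
  change z2 _ = ((dt(bas i, bas j) / 8 : ℤ) : ZMod 2)
  rw [code_bas hi, code_bas hj, beq_iff.1 this, ← z2_decide, Nat.testBit_zero]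
  rw [coe_bas hi, coe_bas hj] at h2 ⊢
  exact congrArg z2 (decide_eq_decide.2 (by omega))

theorem bil_eq_zero {x y : leechLattice} : bil (code x) (code y) = 0 ↔ 16 ∣ dt(x, y) := by
  have h1 := z2_bil x y
  have h2 := eight_dvd_dot x.2 y.2
  have h3 := bil_lt (code x) (code y)
  rw [← z2_decide, Nat.testBit_zero] at h1
  have := decide_eq_decide.1 (z2_inj h1)
  omega

/-- The pointwise stabiliser of the vectors with codes in `S`. -/
def fixL (S : List ℕ) : Subgroup Co1 where
  carrier := {g | ∀ v : L2, code2 v ∈ S → g • v = v}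
  one_mem' := fun _ _ => one_smul _ _
  mul_mem' := fun {a b} ha hb v h => by rw [mul_smul, hb v h, ha v h]
  inv_mem' := fun {a} ha v h => inv_smul_eq_iff.2 (ha v h).symm

theorem good_fix {S L : List ℕ} {H : Subgroup Co1} (hL : ∀ C ∈ L, Good 24 code2 H C)
    (h : allL L (fun C => allL S fun c => Nat.beq (app 24 C c) c) = true) : ∀ C ∈ L, Good 24 code2 (fixL S) C :=
  fun C hC => let ⟨g, _, hg⟩ := hL C hC
    ⟨g, fun v hv => code2_injective ((hg v).trans (beq_iff.1 (allL_iff.1 (allL_iff.1 h C hC) _ hv))), hg⟩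

theorem fixL_le {S : List ℕ} (h : 8388608 ∈ S) : fixL S ≤ stabilizer Co1 e0 := fun _ hg => hg e0 (code2_e0 ▸ h)

theorem fix_span {S : List ℕ} {g : Co1} (hg : g ∈ fixL S) {W m c : ℕ} (h : ∀ i < m, get 24 W i = 0 ∨ get 24 W i ∈ S)
    {v : L2} (hv : code2 v = appA 24 W c m) : g • v = v := by
  induction m generalizing v with
  | zero => rw [code2_injective (hv.trans code2_zero.symm), smul_zero]
  | succ m ih =>
    obtain ⟨w, hw⟩ := exists_code2 (appA_lt 24 W c m)
    replace ih := ih (fun i hi => h i (by omega)) hw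
    rw [appA_succ, ← hw] at hv
    split_ifs at hv
    · obtain ⟨u, hu⟩ := exists_code2 (get_lt 24 W m)
      rw [code2_injective (hv.trans (by rw [code2_add, hu] : _ = code2 (u + w))), smul_add, ih]
      rcases h m (by omega) with e | e
      · rw [code2_injective ((hu.trans e).trans code2_zero.symm), smul_zero]
      · rw [hg u (hu ▸ e)]
    · rw [code2_injective (hv.trans (Nat.zero_xor _)), ih]

/-- generators of the monomial group -/
def mL : List ℕ := [0x800000362000346000d5c000e2d0003670003760000bc00036e0007660003e600087b0003421200edd30fd1906f5a9040803fa942024b6e8a0475d24f4b40c57ec60b5b504366001,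
  0x8000007cc000daa000178000f7f000b8700064c0004cc0006dc0006ce0008f60006c8000e6e860fe4260fd72386dda34efb3147ef074093ae44305ae7798341f7e44cbb8126cc001,
  0x800000400000a00000900000880000040000020000010000808000004000802000001000c30800815400434200850100065080c44040864020831010461008c41004415002ffffff]

theorem good_m : ∀ C ∈ mL, Good 24 code2 (stabilizer Co1 e0) C := fun C hC =>
  (good_fix (S := [8388608]) (good_zipY (L := mL) (Ys := [0x404040404040404040404040404040404040484040404040404040404040404040444040404040404040444040404040404040404040444040404040404040404040444040404040404040404040404040404040444040404040444040404040404040404040404040404040404040404040444040444040404040404040404040404044404040404040444040404040404040404040404440404040404040404040444040404040404040404040404040404040404040444040444040404040404040404040404044404040404040404040444040404040404440404040404040404040404040404040444040404040404040404440404040404040404040404040444040404040404040404040404040404040404440404040444040404040424040404240424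2424240404040404240404240404040404042404040404240424040404242404240404242404040404042404040404242404240404240404240404040404242404040404042404240424042424240404240404040404240404042404040404042424040424242404040404040404240424042424040404240424240424040404040404240404240404042404042404242404040424240404042404240404040404040404042424042404040404242404240404240404240404040404042404242404240424042404040404040424240404040404042404040424240424242404040424240404040404042404242404040424240404042404240404040404240404141414141414141414141414141414141413d4141414141,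
    0x40404040404040404040404040404040404840404040404040404044404040404040404040404040404440404040404040404040404040404040404040404040404444404040404040404040404040404040404040404440404440404040404040404040404040404040404040404040404440444040404040404040404040404040404040404040404440404044404040404040444040404040404040404040404440404040404040404440404040404040404040404040404440404040404040404040404040444040404040404040404440404040404040404040404040404040444040404040404440404040404040404040404040404040404044404040404440404040404040404040404040404044404040404040404440404040404042404242424040424040404042404040404242404040404040404240404040424242424040404240404242404040404040404242424040404040424040404240404042424240404040424240404040424040404042404240404042424042404040404040424040424042424040404242404040424042404040404042404240424040424040404040404242424042404040404040424040404040424042404240424242404042404040404240424040404042404042404240404240424040404240404042424042404042404042404040404042424042404040404042404040424042404042424240404240404042404040404242404040424042424042404040404040424040424041414141414141414141414141414141413d414141414141,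
    0x3840404040404040404040404040404040404040404040403c3c404040404040404040404040404040404040404040403c40444040404040404040404040404040404040404040403c40404440404040404040404040404040404040404040403c40404044404040404040404040404040404040404040403c404040403c4040404040404040404040404040404040403c40404040403c40404040404040404040404040404040403c4040404040403c404040404040404040404040404040403c40404040404040444040404040404040404040404040403c40404040404040403c40404040404040404040404040403c40404040404040404044404040404040404040404040403c404040404040404040403c4040404040404040404040403e3e424040403e3e424042404240404040404040404040403e4042424040403e423e403e404240404040404040404040403e424242403e3e403e404040404240404040404040404040404242423e403e4240424040404042404040404040404040404042423e3e40423e403e4040404042404040404040403e3e4240423e4040423e40404040404040424040404040403e404242403e3e40403e42404040404040404240404040403e40404242403e3e4040423e404040404040404240404040403e4240423e3e404040423e4040404040404040424040403e3e4042403e40404240423e404040404040404040424040403e40404240403e423e423e404040404040404040404240433f4141413f3f3f413f413f41414141414141414141413f])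
    (by decide +kernel) (by decide +kernel)) (by decide +kernel) C hC).mono (fixL_le List.mem_cons_self)

theorem card_fix_le {S : List ℕ} (h : 8388608 ∈ S) {l : List Lo}
    (hl : band (lowChk 24 l mL) (Grp.allP l fun t => memN t.c S) = true) (hS : allL S (fun c => blt c (2 ^ 24)) = true) :
    lowN l * Nat.card (fixL S) ≤ 2 ^ 11 * 244823040 := by
  rw [band_eq_true, Grp.allP_iff] at hl
  have := coded1.low_mul l.length (fun t ht => exists_code2 (blt_iff.1 (allL_iff.1 hS _ (mem_of_memN (hl.2 t ht))))) hl.1
    good_m (fixL_le h) fun g hg t ht x hx => congrArg code2 (hg x (hx ▸ mem_of_memN (hl.2 t (List.mem_of_mem_take ht))))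
  rwa [List.take_length, card_stab] at this

section Gp

variable {G : Type*} [Group G]

/-- The product of the elements `b i`, over the bits `i < m` of `c`. -/
def prodA (b : ℕ → G) (c : ℕ) : ℕ → G
  | 0 => 1
  | m + 1 => (if c.testBit m then b m else 1) * prodA b c m

variable {b : ℕ → G} {c d m : ℕ}

theorem prodA_mem {A : Subgroup G} (hb : ∀ i < m, c.testBit i → b i ∈ A) : prodA b c m ∈ A := by
  induction m with
  | zero => exact A.one_mem
  | succ m ih =>
    refine A.mul_mem ?_ (ih fun i hi => hb i (by omega))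
    split_ifs with h
    exacts [hb m (by omega) h, A.one_mem]

theorem comm_of_sq {A : Subgroup G} (hA : ∀ x ∈ A, x * x = 1) {x y : G} (hx : x ∈ A) (hy : y ∈ A) : x * y = y * x := by
  rw [← inv_eq_of_mul_eq_one_left (hA _ (A.mul_mem hx hy)), _root_.mul_inv_rev, inv_eq_of_mul_eq_one_left (hA x hx),
    inv_eq_of_mul_eq_one_left (hA y hy)]

theorem prodA_xor {A : Subgroup G} (hA : ∀ x ∈ A, x * x = 1) (hb : ∀ i < m, b i ∈ A) :
    prodA b (c ^^^ d) m = prodA b c m * prodA b d m := by
  have hc : ∀ x ∈ A, ∀ y ∈ A, x * y = y * x := fun x hx y hy => comm_of_sq hA hx hy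
  induction m with
  | zero => exact (mul_one _).symm
  | succ m ih =>
    have h1 := hb m (by omega)
    have h2 : prodA b c m ∈ A := prodA_mem fun i hi _ => hb i (by omega)
    simp only [prodA, ih fun i hi => hb i (by omega), Nat.testBit_xor]
    cases c.testBit m <;> cases d.testBit m <;> simp only [Bool.xor_self, Bool.false_xor, Bool.xor_false,
      Bool.false_eq_true, if_true, if_false, one_mul]
    · rw [← mul_assoc, hc _ h1 _ h2, mul_assoc]
    · rw [mul_assoc]
    · rw [hc _ h1 _ h2, mul_assoc, ← mul_assoc (b m), hA _ h1, one_mul]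

theorem prodA_zero : prodA b 0 m = 1 := by
  induction m with
  | zero => rfl
  | succ m ih => simp [prodA, ih]

theorem prodA_two_pow {i : ℕ} (hi : i < m) : prodA b (2 ^ i) m = b i := by
  have k : ∀ n ≤ i, prodA b (2 ^ i) n = 1 := fun n hn => by
    induction n with
    | zero => rfl
    | succ n ih => rw [prodA, ih (by omega), Nat.testBit_two_pow_of_ne (by omega)]; exact one_mul _
  induction m with
  | zero => omega
  | succ m ih =>
    rcases Nat.lt_succ_iff_lt_or_eq.1 hi with h | rfl
    · rw [prodA, ih h, Nat.testBit_two_pow_of_ne (by omega)]; exact one_mul _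
    · rw [prodA, k i le_rfl, Nat.testBit_two_pow_self]; exact mul_one _

theorem code1_add {ι : Type*} {ix : ℕ → ι} {n : ℕ} (u v : ι → ZMod 2) :
    code1 n ix (u + v) = code1 n ix u ^^^ code1 n ix v :=
  F2.eq_of_z2 (code1_lt _) (Nat.xor_lt_two_pow (code1_lt _) (code1_lt _)) fun i hi => by
    rw [Nat.testBit_xor, z2_xor, z2_code1 _ hi, z2_code1 _ hi, z2_code1 _ hi]; rfl

/-- The matrix representation of the normaliser of a parametrised elementary abelian group. -/
theorem exists_rep {ι : Type} [Fintype ι] [DecidableEq ι] {E : Subgroup G} {j : (ι → ZMod 2) → G}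
    (hi : Function.Injective j) (hm : ∀ x, x ∈ E ↔ ∃ v, j v = x) (ha : ∀ u w, j (u + w) = j u * j w) :
    ∃ ψ : normalizer (E : Set G) →* GL ι (ZMod 2), (∀ g u, j ((ψ g).1 *ᵥ u) = g * j u * (g : G)⁻¹) ∧
      ∀ g, ψ g = 1 ↔ (g : G) ∈ centralizer (E : Set G) := by
  choose T hT using fun (g : normalizer (E : Set G)) u => (hm _).1 ((mem_normalizer_iff.1 g.2 _).1 ((hm _).2 ⟨u, rfl⟩))
  let A : normalizer (E : Set G) → Matrix ι ι (ZMod 2) := fun g => LinearMap.toMatrix'
    ((AddMonoidHom.mk' (T g) fun u w => hi (by rw [hT, ha, ha, hT, hT]; group)).toZModLinearMap 2)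
  have hA : ∀ g u, j (A g *ᵥ u) = g * j u * (g : G)⁻¹ := fun g u => by
    rw [← hT]; exact congrArg j (LinearMap.toMatrix'_mulVec _ u)
  have ext : ∀ {M N : Matrix ι ι (ZMod 2)}, (∀ u, j (M *ᵥ u) = j (N *ᵥ u)) → M = N := fun h =>
    Matrix.ext_of_mulVec_single fun i => hi (h _)
  let φ : normalizer (E : Set G) →* Matrix ι ι (ZMod 2) :=
    ⟨⟨A, ext fun u => by simp [hA]⟩, fun g h => ext fun u => by
      rw [← mulVec_mulVec, hA, hA, hA]; simp [mul_assoc]⟩
  refine ⟨φ.toHomUnits, hA, fun g => ⟨fun h x hx => ?_, fun h => Units.ext (ext fun u => ?_)⟩⟩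
  · obtain ⟨u, rfl⟩ := (hm x).1 hx
    have := hA g u
    rw [show A g = 1 from congrArg Units.val h, one_mulVec] at this
    exact eq_mul_inv_iff_mul_eq.1 this
  · rw [Units.val_one, one_mulVec]
    exact (hA g u).trans (mul_inv_eq_iff_eq_mul.2 (h _ ((hm _).2 ⟨u, rfl⟩)).symm)

theorem exists_par {ι : Type} [Fintype ι] [DecidableEq ι] {ix : ℕ → ι} (hx : Num m ix) {A : Subgroup G}
    (hA : ∀ x ∈ A, x * x = 1) (hb : ∀ i < m, b i ∈ A) (h0 : ∀ k < 2 ^ m, prodA b k m = 1 → k = 0) :
    ∃ E ≤ A, Nat.card E = 2 ^ Fintype.card ι ∧ (∀ x, x ∈ E ↔ ∃ k < 2 ^ m, prodA b k m = x) ∧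
      Function.Injective (fun v => prodA b (code1 m ix v) m) ∧ ∃ ψ : normalizer (E : Set G) →* GL ι (ZMod 2),
        (∀ g u, prodA b (code1 m ix ((ψ g).1 *ᵥ u)) m = g * prodA b (code1 m ix u) m * (g : G)⁻¹) ∧
        ∀ g, ψ g = 1 ↔ (g : G) ∈ centralizer (E : Set G) := by
  have ha : ∀ u w, prodA b (code1 m ix (u + w)) m = prodA b (code1 m ix u) m * prodA b (code1 m ix w) m :=
    fun u w => by rw [code1_add, prodA_xor hA hb]
  have hi : Function.Injective fun v => prodA b (code1 m ix v) m := fun u w (e : prodA _ _ _ = prodA _ _ _) =>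
    code1_inj hx (Nat.xor_eq_zero_iff.1 (h0 _ (Nat.xor_lt_two_pow (code1_lt _) (code1_lt _)) (by
      rw [prodA_xor hA hb, e]; exact hA _ (prodA_mem fun i hi _ => hb i hi))))
  let f : Multiplicative (ι → ZMod 2) →* G := MonoidHom.mk' (fun v => prodA b (code1 m ix v.toAdd) m) ha
  refine ⟨f.range, ?_, ?_, fun x => ⟨?_, ?_⟩, hi, exists_rep hi (fun _ => Iff.rfl) ha⟩
  · rintro _ ⟨v, rfl⟩
    exact prodA_mem fun i hi _ => hb i hi
  · rw [← Nat.card_congr (MonoidHom.ofInjective (f := f) hi).toEquiv]
    simp
  · rintro ⟨v, rfl⟩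
    exact ⟨_, code1_lt _, rfl⟩
  · rintro ⟨k, hk, rfl⟩
    obtain ⟨v, rfl⟩ := exists_code1 hx hk
    exact ⟨v, rfl⟩

variable [Finite G] {z : G} {Q : Subgroup G}

theorem card_cen (h : Lg Q z) (hQ : IsExtraspecial 2 Q) {A : Subgroup G} (hA : A ≤ Q) (hz : z ∈ A) :
    Nat.card ↥(Q ⊓ centralizer (A : Set G)) * Nat.card A = 2 * Nat.card Q := by
  have h1 := card_centralizer_mul hQ (A.subgroupOf Q)
  rwa [← card_subtype, ← card_subtype _ (_ ⊔ _), Core.map_subtype_centralizer, Subgroup.map_sup, h.center_eq hQ,
    subgroupOf_map_subtype, inf_eq_left.2 hA, sup_eq_left.2 ((zpowers_le (G := G)).2 hz)] at h1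

theorem cen_cen (h : Lg Q z) (hQ : IsExtraspecial 2 Q) {A : Subgroup G} (hA : A ≤ Q) (hz : z ∈ A) {x : G} (hx : x ∈ Q)
    (hc : x ∈ centralizer ((Q ⊓ centralizer (A : Set G) : Subgroup G) : Set G)) : x ∈ A := by
  have h1 := inf_centralizer_inf_centralizer hQ hA
  rw [inf_centralizer_eq_zpowers hQ h.mem h.ne_one h.cent, sup_eq_left.2 ((zpowers_le (G := G)).2 hz)] at h1
  exact h1.le ⟨hx, hc⟩

variable (D : XD z Q Co1 L2)

theorem conj_or {c : centralizer ({z} : Set G)} {x : G} (hx : x ∈ Q) (h : D.ρ c • D.π x = D.π x) :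
    c * x * (c : G)⁻¹ = x ∨ c * x * (c : G)⁻¹ = z * x :=
  (D.π_eq_iff hx (D.conj_mem c hx)).1 (by rw [D.π_conj c x hx, h])

theorem exists_lift {A : Subgroup G} (hA : A ≤ Q) (hz : z ∈ A) {k : Co1} (hk : ∀ x ∈ A, k • D.π x = D.π x) :
    ∃ c, D.ρ c = k ∧ (c : G) ∈ centralizer (A : Set G) := by
  obtain ⟨c, rfl⟩ := D.surj k
  by_cases h : (c : G) ∈ centralizer (A : Set G)
  · exact ⟨c, rfl, h⟩
  obtain ⟨x, hx, h⟩ : ∃ x ∈ A, x ∉ centralizer ({(c : G)} : Set G) := by
    by_contra! h'
    exact h fun x hx => mem_centralizer_singleton_iff.1 (h' x hx)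
  have k : ∀ y ∈ A, y ∉ centralizer ({(c : G)} : Set G) → c * y * (c : G)⁻¹ = z * y := fun y hy e =>
    (conj_or D (hA hy) (hk y hy)).resolve_left fun e' => e (mem_centralizer_singleton_iff.2
      (mul_inv_eq_iff_eq_mul.1 e').symm)
  obtain ⟨g, hg, e⟩ := D.lg.exists_conj_of_not_mem D.es (H := A ⊓ centralizer {(c : G)}) (inf_le_left.trans hA)
    ⟨hz, mem_centralizer_singleton_iff.2 (mem_centralizer_singleton_iff.1 c.2).symm⟩ (hA hx) fun a => h a.2
  refine ⟨⟨g, D.lg.cent hg.1⟩⁻¹ * c, by rw [map_mul, map_inv, (D.ker ⟨g, _⟩).2 hg.1, inv_one, one_mul], fun y hy => ?_⟩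
  have k1 : ∀ y ∈ A, y ∈ centralizer ({(c : G)} : Set G) → y * (g⁻¹ * c) = g⁻¹ * c * y := fun y hy a => by
    rw [← mul_assoc, (centralizer _).inv_mem hg.2 y ⟨hy, a⟩, mul_assoc, mem_centralizer_singleton_iff.1 a, mul_assoc]
  have k2 : x * (g⁻¹ * c) = g⁻¹ * c * x := by
    calc _ = g⁻¹ * (g * x * g⁻¹) * c := by group
      _ = _ := by rw [e, ← k x hx h]; group
  by_cases a : y ∈ centralizer ({(c : G)} : Set G)
  · exact k1 y hy a
  · have := k1 _ (A.mul_mem (A.inv_mem hx) hy) (mem_centralizer_singleton_iff.2 (by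
      calc _ = x⁻¹ * z⁻¹ * (z * y) * c := by group
        _ = _ := by rw [← k y hy a, ← _root_.mul_inv_rev, ← k x hx h]; group))
    calc y * (g⁻¹ * c) = x * (x⁻¹ * y * (g⁻¹ * c)) := by group
      _ = g⁻¹ * c * y := by rw [this, ← mul_assoc, k2]; group

omit [Finite G] in
theorem code_mul {x y : G} (hx : x ∈ Q) (hy : y ∈ Q) : code2 (D.π (x * y)) = code2 (D.π x) ^^^ code2 (D.π y) := by
  rw [D.π_mul x hx y hy, code2_add]

omit [Finite G] in
theorem code_prodA {W : ℕ} (hb : ∀ i < m, c.testBit i → b i ∈ Q ∧ code2 (D.π (b i)) = get 24 W i) :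
    code2 (D.π (prodA b c m)) = appA 24 W c m := by
  induction m with
  | zero => exact (congrArg code2 D.π_one).trans code2_zero
  | succ m ih =>
    rw [prodA, appA_succ, ← ih fun i hi => hb i (by omega)]
    split_ifs with h
    · rw [code_mul D (hb m (by omega) h).1 (prodA_mem fun i hi a => (hb i (by omega) a).1), (hb m (by omega) h).2]
    · rw [one_mul, Nat.zero_xor]

omit [Finite G] in
theorem mem_of_span {A : Subgroup G} (hA : A ≤ Q) (hz : z ∈ A) {W : ℕ}
    (h : ∀ i < m, c.testBit i → ∃ a ∈ A, code2 (D.π a) = get 24 W i) {q : G} (hq : q ∈ Q)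
    (e : code2 (D.π q) = appA 24 W c m) : q ∈ A := by
  classical
  choose! b h1 h2 using h
  have h3 : prodA b c m ∈ A := prodA_mem h1
  rcases (D.π_eq_iff (hA h3) hq).1 (code2_injective ((code_prodA D fun i hi a => ⟨hA (h1 i hi a), h2 i hi a⟩).trans
    e.symm)) with h | h <;> rw [h]
  exacts [h3, A.mul_mem hz h3]

omit [Finite G] in
theorem code_comm {c : centralizer ({z} : Set G)} {C : ℕ} (hc : LRep 24 code2 (D.ρ c) C) {q : G} (hq : q ∈ Q) :
    ⁅(c : G), q⁆ ∈ Q ∧ code2 (D.π ⁅(c : G), q⁆) = app 24 C (code2 (D.π q)) ^^^ code2 (D.π q) := by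
  rw [commutatorElement_def, code_mul D (D.conj_mem c hq) (Q.inv_mem hq), D.π_conj c q hq, hc, D.π_inv hq, code2_neg]
  exact ⟨Q.mul_mem (D.conj_mem c hq) (Q.inv_mem hq), rfl⟩

omit [Finite G] in
theorem exists_of_code {c : ℕ} (hc : c < 2 ^ 24) : ∃ q ∈ Q, code2 (D.π q) = c := by
  obtain ⟨v, rfl⟩ := exists_code2 hc
  obtain ⟨q, hq, rfl⟩ := D.π_surj v
  exact ⟨q, hq, rfl⟩

theorem comm_iff_bil {x y : G} (hx : x ∈ Q) (hy : y ∈ Q) :
    x * y = y * x ↔ bil (code2 (D.π x)) (code2 (D.π y)) = 0 := by
  obtain ⟨v, hv⟩ := QuotientAddGroup.mk_surjective (D.π x)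
  obtain ⟨w, hw⟩ := QuotientAddGroup.mk_surjective (D.π y)
  rw [comm_iff_dot D hx hy hv.symm hw.symm, ← hv, ← hw, code2_mk, code2_mk, bil_eq_zero]

/-- The standard pair `z`, `t`. -/
structure St (D : XD z Q Co1 L2) (R : Subgroup G) (t : G) : Prop where
  card : Nat.card Q = 2 ^ (2 * 12 + 1)
  pr : Pr Q R z t
  pi : D.π t = e0
  img : D.img R = signs
  cj : ∃ g : G, g * z * g⁻¹ = t ∧ Q.map (MulAut.conj g).toMonoidHom = R

include D in
theorem exists_st (hc : Nat.card Q = 2 ^ (2 * 12 + 1)) {g : G} (hg : g * z * g⁻¹ ∈ Q) (hne : g * z * g⁻¹ ≠ z) :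
    ∃ (D : XD z Q Co1 L2) (R : Subgroup G) (t : G), St D R t :=
  let ⟨D', h⟩ := exists_base D hc hg (isConj_iff.2 ⟨g, rfl⟩) hne
  ⟨D', _, _, hc, D.lg.pr hg hne, h, img_eq_signs D' hc hg h, g, rfl, rfl⟩

variable {D} {R : Subgroup G} {t : G} (h : St D R t)
include h

omit [Finite G] in
theorem St.code_t : code2 (D.π t) = 8388608 := by rw [h.pi, code2_e0]

theorem St.mem_R {q : G} (hq : q ∈ Q) (e : code2 (D.π q) % 4096 = 0) : q ∈ Q ⊓ R := by
  refine mem_of_span D inf_le_left ⟨D.lg.mem, h.pr.mem_r⟩ (W := idM 24) (m := 24) (fun i hi a => ?_) hq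
    (app_idM (code2_lt _)).symm
  have h1 : 12 ≤ i := by
    by_contra h1
    have := Nat.testBit_mod_two_pow (code2 (D.π q)) 12 i
    simp [e, a, not_le.1 h1] at this
  rw [get_idM hi]
  by_cases h2 : i = 23
  · exact ⟨t, ⟨h.pr.mem_l, h.pr.r.mem⟩, h2 ▸ h.code_t⟩
  have := allLt_iff.1 (show allLt 11 (fun i => forceB (nth 0 [11538486, 14688364, 8937586, 11654144, 9543722, 12222476,
    8683614, 14176296, 11731203, 11538486, 14688364] i) fun m => forceB (nth 0 [8388606, 4108284, 8388606, 4108284, 8388606,
    8388606, 8388606, 4108284, 4, 3796982, 8388606] i) fun c => band (band (Golay.isCW m) (blt c (2 ^ 24)))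
    (band (Nat.beq (bil c 8388608) 0) (Nat.beq (app 24 (monoM Mathieu.id24 m) c ^^^ c) (2 ^ (i + 12))))) = true by
    decide +kernel) (i - 12) (by omega)
  simp only [forceB_eq, band_eq_true, beq_iff, blt_iff] at this
  obtain ⟨s, hs, h3, -⟩ := exists_sgn (Golay.mem_CW_of_isCW this.1.1)
  obtain ⟨c, hc, rfl⟩ := h.img.ge hs
  obtain ⟨x, hx, h4⟩ := exists_of_code D this.1.2
  refine ⟨⁅(c : G), x⁆, h.pr.commutator_cross_le (commutator_mem_commutator hc ⟨hx, mem_centralizer_singleton_iff.2
    ((comm_iff_bil D hx h.pr.mem_l).2 (by rw [h4, h.code_t, this.2.1]))⟩), ?_⟩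
  rw [(code_comm D h3 hx).2, h4, this.2.2, Nat.sub_add_cancel h1]

omit [Finite G] in
theorem St.mul_self {x : G} (hx : x ∈ Q ⊓ R) : x * x = 1 := (sq x).symm.trans (h.pr.sq_eq_one hx)

theorem St.exists_swap : ∃ n ∈ Q ⊔ R, n * z * n⁻¹ = t ∧ n * t * n⁻¹ = z ∧ Q.map (MulAut.conj n).toMonoidHom = R := by
  obtain ⟨g, rfl, rfl⟩ := h.cj
  obtain ⟨n, hn, e1, e2⟩ := D.lg.exists_conj_pair h.pr.mem_l h.pr.ne (u := g * z * g⁻¹) (v := z)
    (subset_closure (by simp)) (subset_closure (by simp)) h.pr.r.ne_one D.lg.ne_one h.pr.ne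
  exact ⟨n, hn, e1, e2, D.lg.map_conj_eq e1⟩

end Gp

end Cfsg.Lib.M5
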